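import Groth.Agent.Lib.BlowUp.Exists
import Mathlib.AlgebraicGeometry.ProjectiveSpectrum.Proper

/-!
# Blow-ups are separated
-/

universe u

open CategoryTheory Limits AlgebraicGeometry

namespace GrothLib.BlowUp6

/-- A blow-up is separated over the base. -/
theorem isSeparated_of_isBlowUp {X X' : Scheme.{u}} {b : X' ⟶ X} {I : X.IdealSheafData}
    (hb : _root_.BlowUp.IsBlowUp b I) : IsSeparated b := by
  refine IsZariskiLocalAtTarget.of_openCover (P := @IsSeparated) X.affineCover fun i => ?_
  obtain ⟨A, hA⟩ : ∃ A : CommRingCat.{u}, X.affineCover.X i = Spec A := ⟨_, rfl⟩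
  have h1 := GrothLib.BlowUp.isBlowUp_flat_baseChange (X.affineCover.f i) hb
  revert h1
  show _root_.BlowUp.IsBlowUp (pullback.fst (X.affineCover.f i) b) _ → IsSeparated (pullback.snd b (X.affineCover.f i))
  rw [show pullback.snd b (X.affineCover.f i) =
    (pullbackSymmetry b (X.affineCover.f i)).hom ≫ pullback.fst (X.affineCover.f i) b by simp,
    MorphismProperty.cancel_left_of_respectsIso (P := @IsSeparated)]
  generalize X.affineCover.f i = j
  generalize hY : X.affineCover.X i = Y at *
  subst hA
  intro h1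
  rw [GrothLib.BlowUp.eq_idealSheaf (A := A) (I.comap j)] at h1
  obtain ⟨e, he⟩ := GrothLib.BlowUp.exists_iso_of_isBlowUp h1 (GrothLib.BlowUp.isBlowUp_proj _)
  rw [← he, MorphismProperty.cancel_left_of_respectsIso (P := @IsSeparated)]
  exact MorphismProperty.comp_mem _ (Proj.toSpecZero _) _ inferInstance inferInstance

end GrothLib.BlowUp6
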