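import Groth.Agent.Lib.BlowUp6.Valuation
import Groth.Agent.Lib.BlowUp.IdealComap
import Groth.Agent.Lib.FgSupport6.Exists
import Groth.Prelude.Def_BlowUp2
import Mathlib.AlgebraicGeometry.Morphisms.Proper

/-!
# Boundaries of compatible compactifications
-/

universe u

open CategoryTheory Limits AlgebraicGeometry IsLocalRing

namespace GrothLib.BlowUp6

/-- The valuative uniqueness: an arc in a compactification meets the boundary of one member iff it
meets that of any other. -/
theorem closedPoint_mem_range {X Xi Xj Pi Pj S U : Scheme.{u}} {A K : Type u} [CommRing A]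
    [IsDomain A] [ValuationRing A] [Field K] [Algebra A K] [IsFractionRing A K]
    (gX : X ⟶ S) (oi : Xi ⟶ Pi) [IsOpenImmersion oi] (oj : Xj ⟶ Pj) (gi : Pi ⟶ S) (gj : Pj ⟶ S)
    [IsSeparated gj] (qi : Xi ⟶ X) (qj : Xj ⟶ X) [UniversallyClosed qj]
    (hqi : qi ≫ gX = oi ≫ gi) (hqj : qj ≫ gX = oj ≫ gj) [Mono oi] (vi : U ⟶ Xi) (vj : U ⟶ Xj)
    (hv : vi ≫ qi = vj ≫ qj) (a : Spec (.of K) ⟶ U) (φi : Spec (.of A) ⟶ Pi)
    (φj : Spec (.of A) ⟶ Pj) (hφ : φi ≫ gi = φj ≫ gj)
    (hai : Spec.map (CommRingCat.ofHom (algebraMap A K)) ≫ φi = a ≫ vi ≫ oi)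
    (haj : Spec.map (CommRingCat.ofHom (algebraMap A K)) ≫ φj = a ≫ vj ≫ oj)
    (hc : φi (closedPoint A) ∈ Set.range oi) : φj (closedPoint A) ∈ Set.range oj := by
  let ψi := IsOpenImmersion.lift oi φi
    (range_subset_of_closedPoint_mem φi oi.isOpenEmbedding.isOpen_range hc)
  have hψi : ψi ≫ oi = φi := IsOpenImmersion.lift_fac _ _ _
  have hex : ValuativeCriterion.Existence qj := by
    have : UniversallyClosed qj := ‹_›
    rw [UniversallyClosed.eq_valuativeCriterion] at this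
    exact this.1
  have hgen : Spec.map (CommRingCat.ofHom (algebraMap A K)) ≫ ψi = a ≫ vi := by
    rw [← cancel_mono oi, Category.assoc, hψi, hai, Category.assoc]
  obtain ⟨ψj, h₁, h₂⟩ := (hex { R := A, K := K, i₁ := a ≫ vj, i₂ := ψi ≫ qi, commSq := ⟨by rw [Category.assoc, ← hv, reassoc_of% hgen]⟩ }).exists_lift
  dsimp only at h₁ h₂
  have huni : ValuativeCriterion.Uniqueness gj := by
    have : IsSeparated gj := ‹_›
    rw [IsSeparated.eq_valuativeCriterion] at this
    exact this.1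
  let S' : ValuativeCommSq gj := { R := A, K := K, i₁ := a ≫ vj ≫ oj, i₂ := φj ≫ gj, commSq := ⟨by rw [← haj, Category.assoc]⟩ }
  have : Subsingleton S'.commSq.LiftStruct := huni S'
  let l₁ : S'.commSq.LiftStruct := ⟨φj, haj, rfl⟩
  let l₂ : S'.commSq.LiftStruct := ⟨ψj ≫ oj, by rw [reassoc_of% h₁], by
    show (ψj ≫ oj) ≫ gj = φj ≫ gj
    rw [← hφ, ← hψi]
    refine (Category.assoc _ _ _).trans ((congrArg (ψj ≫ ·) hqj.symm).trans
      (Eq.trans ?_ ((congrArg (ψi ≫ ·) hqi).trans (Category.assoc _ _ _).symm)))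
    exact ((Category.assoc _ _ _).symm.trans (congrArg (· ≫ gX) h₂)).trans (Category.assoc _ _ _)⟩
  have := congrArg CommSq.LiftStruct.l (Subsingleton.elim l₁ l₂)
  dsimp [l₁, l₂] at this
  exact ⟨ψj (closedPoint A), by rw [← Scheme.Hom.comp_apply, ← this]⟩

/-- Near the closure of the preimage of a part of `V(J)` away from the centre, the blow-up in
`J + B` has the exceptional ideal `B`. -/
theorem exists_le_near {X X' : Scheme.{u}} (c : X' ⟶ X) (J B : X.IdealSheafData)
    (hb : BlowUp.IsEffCartierIdeal ((J ⊔ B).comap c)) (A : Set X) (hJ : A ⊆ J.support)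
    (hA : Disjoint A ((J ⊔ B).support : Set X)) (y : X') (hy : y ∈ closure (c ⁻¹' A)) :
    ∃ D : X'.affineOpens, y ∈ D.1 ∧ (J.comap c).ideal D ≤ (B.comap c).ideal D := by
  obtain ⟨W, hyW, e, he, hW⟩ := hb y
  rw [Scheme.IdealSheafData.comap_sup, Scheme.IdealSheafData.ideal_sup, Pi.sup_apply] at hW
  obtain ⟨a, ha, b, hb', hab⟩ := Submodule.mem_sup.mp (hW.ge (Ideal.mem_span_singleton_self e))
  obtain ⟨a', rfl⟩ := Ideal.mem_span_singleton'.mp (hW.le (Submodule.mem_sup_left ha))
  obtain ⟨b', rfl⟩ := Ideal.mem_span_singleton'.mp (hW.le (Submodule.mem_sup_right hb'))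
  have h1 : a' + b' = 1 := by
    refine (mem_nonZeroDivisors_iff_right.mp he (a' + b' - 1) ?_ |> sub_eq_zero.mp)
    rw [sub_mul, add_mul, one_mul, hab, sub_self]
  have hnot : y ∉ X'.basicOpen a' := by
    intro hya
    obtain ⟨x, hxa, hxA⟩ := mem_closure_iff.mp hy _ (X'.basicOpen a').2 hya
    have hxW : x ∈ W.1 := X'.basicOpen_le a' hxa
    have hsupp : x ∈ ((J.comap c).support : Set X') := by
      rw [Scheme.IdealSheafData.support_comap]; exact hJ hxA
    have hxe : x ∈ X'.basicOpen e := by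
      by_contra hne
      refine Set.disjoint_left.mp hA hxA ?_
      have hz : x ∈ X'.zeroLocus (U := W.1) (((J ⊔ B).comap c).ideal W) := by
        rw [Scheme.IdealSheafData.comap_sup, Scheme.IdealSheafData.ideal_sup, Pi.sup_apply, hW,
          Scheme.zeroLocus_span, Scheme.mem_zeroLocus_iff]
        rintro _ rfl
        exact hne
      have hx' : x ∈ (((J ⊔ B).comap c).support : Set X') :=
        (Scheme.IdealSheafData.mem_support_iff_of_mem (U := W) hxW).mpr hz
      rw [Scheme.IdealSheafData.support_comap] at hx'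
      exact hx'
    refine (Scheme.mem_zeroLocus_iff _ _ _).mp
      ((Scheme.IdealSheafData.mem_support_iff_of_mem (U := W) hxW).mp hsupp) _ ha ?_
    rw [Scheme.basicOpen_mul]
    exact ⟨hxa, hxe⟩
  have hyb : y ∈ X'.basicOpen b' := by
    have hu : IsUnit (X'.presheaf.germ W.1 y hyW a') ∨ IsUnit (X'.presheaf.germ W.1 y hyW b') := by
      refine IsLocalRing.isUnit_or_isUnit_of_add_one ?_
      rw [← map_add, h1, map_one]
    rcases hu with h | h
    · exact absurd ((X'.mem_basicOpen _ y hyW).mpr h) hnot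
    · exact (X'.mem_basicOpen _ y hyW).mpr h
  refine ⟨X'.affineBasicOpen b', hyb, ?_⟩
  let r := (X'.presheaf.map (homOfLE (X'.basicOpen_le b')).op).hom
  rw [← (J.comap c).map_ideal_basicOpen W b', ← (B.comap c).map_ideal_basicOpen W b']
  have hr : r e ∈ ((B.comap c).ideal W).map r := by
    have hu : IsUnit (r b') := X'.toRingedSpace.isUnit_res_basicOpen b'
    obtain ⟨u, hu⟩ := hu
    have := Ideal.mem_map_of_mem r hb'
    rw [map_mul, ← hu] at this
    simpa using Ideal.mul_mem_left _ (↑u⁻¹) this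
  calc ((J.comap c).ideal W).map r ≤ (Ideal.span {e}).map r := Ideal.map_mono (le_sup_left.trans hW.le)
    _ ≤ _ := by rw [Ideal.map_span, Set.image_singleton, Ideal.span_singleton_le_iff_mem]; exact hr

/-- An inequality of ideals on an affine open pulls back along maps into it. -/
theorem comap_le_comap {T X : Scheme.{u}} [IsAffine T] (φ : T ⟶ X) (I I' : X.IdealSheafData)
    (D : X.affineOpens) (hD : Set.range φ ⊆ (D.1 : Set X)) (h : I.ideal D ≤ I'.ideal D) :
    I.comap φ ≤ I'.comap φ := by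
  refine Scheme.IdealSheafData.le_of_iSup_eq_top
    (fun _ : PUnit.{1} => ⟨⊤, isAffineOpen_top T⟩) (by simp) fun _ => ?_
  have e : (⊤ : T.Opens) ≤ φ ⁻¹ᵁ D.1 := fun t _ => hD ⟨t, rfl⟩
  rw [BlowUp.ideal_comap_eq_map _ φ D ⟨⊤, isAffineOpen_top T⟩ e,
    BlowUp.ideal_comap_eq_map _ φ D ⟨⊤, isAffineOpen_top T⟩ e]
  exact Ideal.map_mono h

end GrothLib.BlowUp6
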