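import Mathlib.AlgebraicGeometry.Morphisms.Separated
import Mathlib.AlgebraicGeometry.Morphisms.Proper

/-!
# The structure map of a finite fibre product
-/

universe v u

open CategoryTheory Limits AlgebraicGeometry

namespace GrothLib.BlowUp6

/-- A property stable under composition and base change passes to finite fibre products. -/
theorem prop_widePullback_base {C : Type u} [Category.{v} C] [HasFiniteLimits C]
    (P : MorphismProperty C) [P.IsMultiplicative] [P.IsStableUnderBaseChange] {S : C} :
    ∀ {m : ℕ} (X : Fin m → C) (g : ∀ i, X i ⟶ S), (∀ i, P (g i)) → P (WidePullback.base g)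
  | 0, X, g, _ => by
    have : IsIso (WidePullback.base g) :=
      ⟨WidePullback.lift (𝟙 S) (fun i => Fin.elim0 i) (fun i => Fin.elim0 i),
        WidePullback.hom_ext _ _ _ (fun i => Fin.elim0 i)
        (by rw [Category.assoc, WidePullback.lift_base, Category.comp_id, Category.id_comp]),
        WidePullback.lift_base _ _ _ _⟩
    exact P.of_isIso _
  | m + 1, X, g, hg => by
    let X' : Fin m → C := fun i => X i.succ
    let g' : ∀ i, X' i ⟶ S := fun i => g i.succ
    let r : widePullback S X g ⟶ widePullback S X' g' :=
      WidePullback.lift (WidePullback.base g) (fun i => WidePullback.π g i.succ)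
        (fun i => WidePullback.π_arrow g i.succ)
    have hr : r ≫ WidePullback.base g' = WidePullback.base g := WidePullback.lift_base _ _ _ _
    have hpb : IsPullback r (WidePullback.π g 0) (WidePullback.base g') (g 0) := by
      refine IsPullback.of_isLimit' ⟨by rw [hr, WidePullback.π_arrow]⟩ ?_
      refine PullbackCone.IsLimit.mk _
        (fun s => WidePullback.lift (s.fst ≫ WidePullback.base g')
          (Fin.cases s.snd fun i => s.fst ≫ WidePullback.π g' i) (fun i => ?_))
        (fun s => ?_) (fun s => ?_) (fun s k h1 h2 => ?_)
      · induction i using Fin.cases with
        | zero => exact s.condition.symm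
        | succ i =>
          show (s.fst ≫ WidePullback.π g' i) ≫ g i.succ = _
          rw [Category.assoc, show WidePullback.π g' i ≫ g i.succ = WidePullback.base g' from
            WidePullback.π_arrow g' i]
      · refine WidePullback.hom_ext _ _ _ (fun i => ?_) ?_
        · rw [Category.assoc]
          erw [WidePullback.lift_π, WidePullback.lift_π]
          rfl
        · rw [Category.assoc, hr, WidePullback.lift_base]
      · exact WidePullback.lift_π _ _ _ _ 0
      · refine WidePullback.hom_ext _ _ _ (fun i => ?_) ?_
        · induction i using Fin.cases with
          | zero =>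
            rw [WidePullback.lift_π]
            exact h2
          | succ i =>
            rw [WidePullback.lift_π]
            show _ = s.fst ≫ WidePullback.π g' i
            rw [← h1, Category.assoc]
            erw [WidePullback.lift_π]
        · rw [WidePullback.lift_base, ← h1, Category.assoc, hr]
    rw [← hr]
    exact P.comp_mem _ _ (P.of_isPullback hpb.flip (hg 0))
      (prop_widePullback_base P X' g' fun i => hg i.succ)

end GrothLib.BlowUp6
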