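import Groth.Agent.Lib.BlowUp6.Boundary
import Groth.Agent.Lib.BlowUp6.Separated
import Groth.Agent.Lib.BlowUp6.WidePullback
import Groth.Agent.Lib.FgSupport6.Separate
import Groth.Agent.Lib.FSchSys.PowLE

/-!
# Separating closed sets of several compactifications by admissible blow-ups
-/

universe u

open CategoryTheory Limits AlgebraicGeometry IsLocalRing

namespace GrothLib.BlowUp6

variable {S X U : Scheme.{u}} {m : ℕ} {gX : X ⟶ S} {Xi Xb : Fin m → Scheme.{u}}
  {gb : ∀ i, Xb i ⟶ S} {o : ∀ i, Xi i ⟶ Xb i} {q : ∀ i, Xi i ⟶ X}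

/-- The image of an open of finite-type-ideal complement and the boundary of a qc open. -/
theorem exists_ideals [CompactSpace S] [QuasiSeparatedSpace S] {P Q : Scheme.{u}} (g : P ⟶ S)
    [IsProper g] (o : Q ⟶ P) [IsOpenImmersion o] [QuasiCompact o] (Y : Q.IdealSheafData)
    (hY : BlowUp.IsFiniteTypeIdeal Y) :
    ∃ J B : P.IdealSheafData, BlowUp.IsFiniteTypeIdeal J ∧ BlowUp.IsFiniteTypeIdeal B ∧
      (B.support : Set P) = (Set.range o)ᶜ ∧
      ((J.support : Set P) ∩ Set.range o) = o '' (Y.support : Set Q) := by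
  classical
  have : CompactSpace P := QuasiCompact.compactSpace_of_compactSpace g
  have : QuasiSeparatedSpace P := quasiSeparatedSpace_of_quasiSeparated g
  have : CompactSpace Q := QuasiCompact.compactSpace_of_compactSpace o
  obtain ⟨B, hB, hBs⟩ := FgSupport6.exists_fg_support_eq o.opensRange
    (isCompact_range o.continuous)
  have hVc : IsCompact (o '' (Y.support : Set Q)ᶜ) := by
    refine IsCompact.image ?_ o.continuous
    -- complement of the support of a finite type ideal on a quasi-compact scheme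
    let 𝒰 := Q.affineCover.finiteSubcover
    have hcov : ∀ y : Q, ∃ i, y ∈ (𝒰.f i).opensRange := fun y => ⟨_, 𝒰.covers y⟩
    let W : 𝒰.I₀ → Q.affineOpens := fun i => ⟨(𝒰.f i).opensRange, isAffineOpen_opensRange _⟩
    choose G hG using fun i => hY (W i)
    have : (Y.support : Set Q)ᶜ = ⋃ i, ⋃ g ∈ G i, (Q.basicOpen g : Set Q) := by
      ext x
      simp only [Set.mem_iUnion, Set.mem_compl_iff, SetLike.mem_coe]
      constructor
      · intro hx
        obtain ⟨i, hi⟩ := hcov x
        rw [Scheme.IdealSheafData.mem_support_iff_of_mem (U := W i) hi, ← hG i,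
          Scheme.zeroLocus_span, Scheme.mem_zeroLocus_iff] at hx
        push Not at hx
        obtain ⟨g, hg, hxg⟩ := hx
        exact ⟨i, g, hg, hxg⟩
      · rintro ⟨i, g, hg, hxg⟩ hxs
        rw [Scheme.IdealSheafData.mem_support_iff_of_mem (U := W i) (Q.basicOpen_le g hxg), ← hG i,
          Scheme.zeroLocus_span, Scheme.mem_zeroLocus_iff] at hxs
        exact hxs g hg hxg
    rw [this]
    exact isCompact_iUnion fun i => (G i).finite_toSet.isCompact_biUnion fun g _ =>
      ((W i).2.basicOpen g).isCompact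
  let V : P.Opens := ⟨o '' (Y.support : Set Q)ᶜ,
    o.isOpenEmbedding.isOpenMap _ Y.support.isClosed.isOpen_compl⟩
  obtain ⟨J, hJ, hJs⟩ := FgSupport6.exists_fg_support_eq V hVc
  refine ⟨J, B, hJ, hB, hBs, ?_⟩
  rw [hJs]
  ext p
  constructor
  · rintro ⟨h1, x, rfl⟩
    exact ⟨x, not_not.mp fun h => h1 ⟨x, h, rfl⟩, rfl⟩
  · rintro ⟨x, hx, rfl⟩
    exact ⟨fun ⟨y, hy, e⟩ => hy (o.isOpenEmbedding.injective e ▸ hx), x, rfl⟩

theorem fg_comap {P T : Scheme.{u}} (I : P.IdealSheafData) (hI : BlowUp.IsFiniteTypeIdeal I)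
    (p : T ⟶ P) (t : T) : ∃ W : T.affineOpens, t ∈ W.1 ∧ ((I.comap p).ideal W).FG := by
  obtain ⟨U, V, hxV, hVU⟩ := FSchSys.exists_affine_pair p t
  refine ⟨V, hxV, ?_⟩
  rw [GrothLib.BlowUp.ideal_comap_eq_map _ p U V hVU]
  exact (hI U).map _

theorem fg_iSup {T : Scheme.{u}} {ι : Type} [Fintype ι] (I : ι → T.IdealSheafData)
    (h : ∀ i (t : T), ∃ W : T.affineOpens, t ∈ W.1 ∧ ((I i).ideal W).FG) (W : T.affineOpens) :
    ((⨆ i, I i).ideal W).FG := by
  choose V htV hfg using h
  rw [Scheme.IdealSheafData.ideal_iSup, iSup_apply]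
  refine Submodule.fg_iSup _ fun i => ?_
  exact FgSupport6.fg_of_cover (I i) (V i) (fun t => ⟨t, htV i t⟩) (hfg i) W

theorem exists_blowUps_separating [CompactSpace S] [QuasiSeparatedSpace S]
    [∀ i, IsProper (gb i)] [∀ i, IsOpenImmersion (o i)] [∀ i, QuasiCompact (o i)]
    [IsSeparated gX] [QuasiCompact gX] [∀ i, IsProper (q i)] (hq : ∀ i, q i ≫ gX = o i ≫ gb i)
    (jU : U ⟶ X) [QuasiCompact jU] (v : ∀ i, U ⟶ Xi i) (hv : ∀ i, v i ≫ q i = jU)
    (w : ∀ i, (v i ≫ o i) ≫ gb i = jU ≫ gX) (Y : ∀ i, (Xi i).IdealSheafData)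
    (hY : ∀ i, BlowUp.IsFiniteTypeIdeal (Y i))
    (hempty : ∀ z ∈ closure (Set.range (fun x => (WidePullback.lift (jU ≫ gX) (fun i => v i ≫ o i) w) x)),
      ∃ i, (WidePullback.π gb i) z ∉ (fun x => o i x) '' ((Y i).support : Set (Xi i))) :
    ∃ (𝓔 : ∀ i, (Xb i).IdealSheafData) (Xb' : Fin m → Scheme.{u}) (c : ∀ i, Xb' i ⟶ Xb i)
      (v' : ∀ i, U ⟶ Xb' i) (w' : ∀ i, v' i ≫ c i ≫ gb i = jU ≫ gX),
      (∀ i, BlowUp.IsBlowUp (c i) (𝓔 i) ∧ BlowUp.IsAdmissibleFor (o i).opensRange (𝓔 i) ∧
        v' i ≫ c i = v i ≫ o i) ∧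
      ∀ z ∈ closure (Set.range (fun x => (WidePullback.lift (jU ≫ gX) (fun i => v' i) w') x)),
        ∃ i, (WidePullback.π (fun i => c i ≫ gb i) i) z ∉
          closure ((fun y => c i y) ⁻¹' ((fun x => o i x) '' ((Y i).support : Set (Xi i)))) := by
  classical
  choose J B hJ hB hBs hJs using fun i => exists_ideals (gb i) (o i) (Y i) (hY i)
  let g := WidePullback.lift (jU ≫ gX) (fun i => v i ≫ o i) w
  have hgπ : ∀ i, g ≫ WidePullback.π gb i = v i ≫ o i := fun i => WidePullback.lift_π _ _ _ _ i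
  have hprop : IsProper (WidePullback.base gb) :=
    prop_widePullback_base @IsProper Xb gb fun i => inferInstance
  have : QuasiCompact g := by
    have : QuasiCompact (g ≫ WidePullback.base gb) := by
      rw [WidePullback.lift_base]; infer_instance
    exact QuasiCompact.of_comp g (WidePullback.base gb)
  -- the boundaries agree on the closure of `U`
  have hbd : ∀ z ∈ closure (Set.range g), ∀ i j, WidePullback.π gb i z ∈ Set.range (o i) →
      WidePullback.π gb j z ∈ Set.range (o j) := by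
    intro z hz i j hi
    obtain ⟨A, _, _, _, K, _, _, _, a, φ, ha, hφ⟩ := exists_valuation_arc g z hz
    have := closedPoint_mem_range gX (o i) (o j) (gb i) (gb j) (q i) (q j) (hq i) (hq j) (v i) (v j)
      ((hv i).trans (hv j).symm) a (φ ≫ WidePullback.π gb i) (φ ≫ WidePullback.π gb j)
      (by simp only [Category.assoc, WidePullback.π_arrow])
      (by rw [reassoc_of% ha, hgπ]) (by rw [reassoc_of% ha, hgπ])
      (by rw [Scheme.Hom.comp_apply, hφ]; exact hi)
    rwa [Scheme.Hom.comp_apply, hφ] at this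
  let Z := g.ker.subscheme
  let ι : Z ⟶ widePullback S Xb gb := g.ker.subschemeι
  have hιrange : Set.range ι = closure (Set.range g) := by
    rw [Scheme.IdealSheafData.range_subschemeι, Scheme.Hom.support_ker]
  have : CompactSpace (widePullback S Xb gb : Scheme.{u}) :=
    QuasiCompact.compactSpace_of_compactSpace (WidePullback.base gb)
  have : CompactSpace Z := QuasiCompact.compactSpace_of_compactSpace ι
  let p : ∀ i, Z ⟶ Xb i := fun i => ι ≫ WidePullback.π gb i
  -- a common power of each boundary lies in the sum of the `J`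
  have hN : ∀ j, ∃ N : ℕ, ((B j).comap (p j)) ^ (N + 1) ≤ ⨆ i, (J i).comap (p i) := by
    intro j
    refine FSchSys.exists_pow_le_of_support_subset _ _ (fg_comap (B j) (hB j) (p j)) ?_
    intro t ht
    rw [Scheme.IdealSheafData.support_comap]
    show p j t ∈ (B j).support
    rw [← SetLike.mem_coe, hBs j]
    intro htr
    have hz : ι t ∈ closure (Set.range g) := hιrange ▸ Set.mem_range_self t
    obtain ⟨i, hi⟩ := hempty (ι t) hz
    refine hi ?_
    have hir : WidePullback.π gb i (ι t) ∈ Set.range (o i) := hbd _ hz j i htr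
    have hiJ : t ∈ ((J i).comap (p i)).support := by
      rw [Scheme.IdealSheafData.support_iSup] at ht
      exact SetLike.le_def.mp (iInf_le (fun k => ((J k).comap (p k)).support) i) ht
    rw [Scheme.IdealSheafData.support_comap] at hiJ
    exact (hJs i).le ⟨hiJ, hir⟩
  choose N hN using hN
  have hn : ∀ i j, ∃ n : ℕ, ((B i).comap (p i)) ^ (n + 1) ≤ ((B j).comap (p j)) ^ (N j + 1 + 1) := by
    intro i j
    refine FSchSys.exists_pow_le_of_support_subset _ _ (fg_comap (B i) (hB i) (p i)) ?_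
    intro t ht
    rw [Scheme.IdealSheafData.support_pow _ _ (by omega), Scheme.IdealSheafData.support_comap] at ht
    rw [Scheme.IdealSheafData.support_comap]
    show p i t ∈ (B i).support
    have ht' : p j t ∈ ((B j).support : Set (Xb j)) := ht
    rw [hBs j] at ht'
    rw [← SetLike.mem_coe, hBs i]
    intro htr
    exact ht' (hbd _ (hιrange ▸ Set.mem_range_self t) i j htr)
  choose n₀ hn₀ using hn
  let n : ℕ := (Finset.univ.sup fun ij : Fin m × Fin m => n₀ ij.1 ij.2) + 1
  have hle : ∀ i j, ((B i).comap (p i)) ^ n ≤ ((B j).comap (p j)) ^ (N j + 1 + 1) := by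
    intro i j
    refine le_trans ?_ (hn₀ i j)
    rw [Scheme.IdealSheafData.le_def]
    intro W
    simp only [Scheme.IdealSheafData.ideal_pow, Pi.pow_apply]
    exact Ideal.pow_le_pow_right (Nat.succ_le_succ
      (Finset.le_sup (f := fun ij : Fin m × Fin m => n₀ ij.1 ij.2) (Finset.mem_univ (i, j))))
  -- the centres
  let 𝓔 : ∀ i, (Xb i).IdealSheafData := fun i => J i ⊔ B i ^ n
  have hdisj : ∀ i, Disjoint ((𝓔 i).support : Set (Xb i)) (Set.range (o i)) := by
    intro i
    rw [Set.disjoint_left]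
    intro x hx
    have : x ∈ ((B i ^ n).support : Set (Xb i)) := by
      rw [Scheme.IdealSheafData.support_sup] at hx; exact hx.2
    rw [Scheme.IdealSheafData.support_pow _ _ (by omega), hBs i] at this
    exact this
  choose Xb' c hc using fun i => GrothLib.BlowUp.exists_isBlowUp (Xb i) (𝓔 i)
  have hlift : ∀ i, ∃ l : U ⟶ Xb' i, l ≫ c i = v i ≫ o i := by
    intro i
    refine ((hc i).2 U (v i ≫ o i) ?_).exists
    have : (𝓔 i).comap (v i ≫ o i) = ⊤ := by
      rw [← Scheme.IdealSheafData.support_eq_bot_iff]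
      ext x
      simp only [Scheme.IdealSheafData.support_comap]
      constructor
      · intro hx
        exact absurd (Set.mem_range_self (v i x)) (Set.disjoint_left.mp (hdisj i) hx)
      · exact fun h => h.elim
    rw [this]
    exact GrothLib.BlowUp.isEffCartierIdeal_top
  choose v' hv' using hlift
  have w' : ∀ i, v' i ≫ c i ≫ gb i = jU ≫ gX := fun i => by rw [reassoc_of% hv' i, ← w i, Category.assoc]
  refine ⟨𝓔, Xb', c, v', w', fun i => ⟨hc i, ⟨fun W => ?_, hdisj i⟩, hv' i⟩, ?_⟩
  · simp only [𝓔, Scheme.IdealSheafData.ideal_sup, Pi.sup_apply, Scheme.IdealSheafData.ideal_pow,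
      Pi.pow_apply]
    exact Submodule.FG.sup (hJ i W) ((hB i W).pow (n := n))
  intro z hz
  by_contra hcon
  push Not at hcon
  let g' := WidePullback.lift (jU ≫ gX) (fun i => v' i) w'
  have hsep : IsSeparated (WidePullback.base fun i => c i ≫ gb i) :=
    prop_widePullback_base @IsSeparated _ _ fun i => by
      have := isSeparated_of_isBlowUp (hc i)
      infer_instance
  have : QuasiCompact g' := by
    have : QuasiCompact (g' ≫ WidePullback.base fun i => c i ≫ gb i) := by
      rw [WidePullback.lift_base]; infer_instance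
    exact QuasiCompact.of_comp g' (WidePullback.base fun i => c i ≫ gb i)
  obtain ⟨A, _, _, _, K, _, _, _, a, φ', ha', hφ'⟩ := exists_valuation_arc g' z hz
  -- the arc in the product of the compactifications
  let ψ : Spec (.of A) ⟶ widePullback S Xb gb :=
    WidePullback.lift (φ' ≫ WidePullback.base fun i => c i ≫ gb i)
      (fun i => φ' ≫ WidePullback.π (fun i => c i ≫ gb i) i ≫ c i)
      (fun i => by simp only [Category.assoc, WidePullback.π_arrow])
  have hψπ : ∀ i, ψ ≫ WidePullback.π gb i = φ' ≫ WidePullback.π (fun i => c i ≫ gb i) i ≫ c i :=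
    fun i => WidePullback.lift_π _ _ _ _ i
  have hψ : Spec.map (CommRingCat.ofHom (algebraMap A K)) ≫ ψ = a ≫ g := by
    refine WidePullback.hom_ext _ _ _ (fun i => ?_) ?_
    · rw [Category.assoc, hψπ, reassoc_of% ha', Category.assoc, hgπ,
        ← Category.assoc g', WidePullback.lift_π, hv']
    · rw [Category.assoc, WidePullback.lift_base, Category.assoc, WidePullback.lift_base,
        reassoc_of% ha', WidePullback.lift_base]
  let ψZ : Spec (.of A) ⟶ Z := IsClosedImmersion.lift ι ψ (by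
    rw [Scheme.IdealSheafData.ker_subschemeι]; exact ker_le_ker g a ψ hψ)
  have hψZ : ψZ ≫ ι = ψ := IsClosedImmersion.lift_fac _ _ _
  have hψp : ∀ i, ψZ ≫ p i = φ' ≫ WidePullback.π (fun i => c i ≫ gb i) i ≫ c i := fun i => by
    rw [← hψπ i, ← hψZ, Category.assoc]
  have hzZ : ψ (closedPoint A) ∈ closure (Set.range g) := by
    rw [← hιrange, ← hψZ, Scheme.Hom.comp_apply]; exact Set.mem_range_self _
  -- some coordinate lies in the boundary, hence all
  obtain ⟨i₀, hi₀⟩ := hempty _ hzZ
  have hcoord : ∀ i, WidePullback.π gb i (ψ (closedPoint A)) =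
      c i (WidePullback.π (fun i => c i ≫ gb i) i z) := fun i => by
    rw [← Scheme.Hom.comp_apply, hψπ i, Scheme.Hom.comp_apply, Scheme.Hom.comp_apply, hφ']
  have hall : ∀ i, WidePullback.π gb i (ψ (closedPoint A)) ∉ Set.range (o i) := by
    intro i hi
    have h0 := hbd _ hzZ i i₀ hi
    refine hi₀ ?_
    rw [← hJs i₀]
    refine ⟨?_, h0⟩
    rw [hcoord]
    have hcl : closure ((fun y => c i₀ y) ⁻¹' ((fun x => o i₀ x) '' ((Y i₀).support : Set (Xi i₀)))) ⊆
        (fun y => c i₀ y) ⁻¹' ((J i₀).support : Set (Xb i₀)) := by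
      refine closure_minimal (Set.preimage_mono ?_) ((J i₀).support.isClosed.preimage (c i₀).continuous)
      rw [← hJs i₀]
      exact Set.inter_subset_left
    exact hcl (hcon i₀)
  -- the ideals on the valuation ring
  have hJB : ∀ i, (J i).comap (ψZ ≫ p i) ≤ ((B i).comap (ψZ ≫ p i)) ^ n := by
    intro i
    obtain ⟨D, hyD, hD⟩ := exists_le_near (c i) (J i) (B i ^ n) (hc i).1 _
      ((hJs i).symm.le.trans Set.inter_subset_left)
      ((hdisj i).symm.mono_left ((hJs i).symm.le.trans Set.inter_subset_right)) _ (hcon i)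
    have := comap_le_comap (φ' ≫ WidePullback.π (fun i => c i ≫ gb i) i) _ _ D
      (range_subset_of_closedPoint_mem _ D.1.2 (by rw [Scheme.Hom.comp_apply, hφ']; exact hyD)) hD
    rw [← Scheme.IdealSheafData.comap_comp, ← Scheme.IdealSheafData.comap_comp, Category.assoc,
      FSchSys.comap_pow] at this
    rwa [hψp i]
  let I := (B i₀).comap (ψZ ≫ p i₀)
  have hkey : I ^ (N i₀ + 1) ≤ I ^ (N i₀ + 1 + 1) := by
    have h1 := Scheme.IdealSheafData.comap_mono (f := ψZ) (hN i₀)
    simp only [(Scheme.IdealSheafData.map_gc ψZ).l_iSup, FSchSys.comap_pow,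
      ← Scheme.IdealSheafData.comap_comp] at h1
    refine h1.trans (iSup_le fun i => (hJB i).trans ?_)
    have h2 := Scheme.IdealSheafData.comap_mono (f := ψZ) (hle i i₀)
    simpa only [FSchSys.comap_pow, ← Scheme.IdealSheafData.comap_comp] using h2
  refine not_pow_le_pow_succ (K := K) I ?_ (N i₀ + 1) ?_ ?_ hkey
  · have hfg : ∀ t, ∃ W : (Spec (.of A)).affineOpens, t ∈ W.1 ∧ (I.ideal W).FG :=
      fun t => fg_comap (B i₀) (hB i₀) (ψZ ≫ p i₀) t
    choose W htW hW using hfg
    exact FgSupport6.fg_of_cover I W (fun t => ⟨t, htW t⟩) hW _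
  · rw [Scheme.IdealSheafData.support_comap]
    show (ψZ ≫ p i₀) (closedPoint A) ∈ ((B i₀).support : Set (Xb i₀))
    rw [hBs i₀, hψp i₀, ← hψπ i₀, Scheme.Hom.comp_apply]
    exact hall i₀
  · obtain ⟨k⟩ : Nonempty (Spec (.of K)) := inferInstance
    refine ⟨Spec.map (CommRingCat.ofHom (algebraMap A K)) k, ?_⟩
    rw [Scheme.IdealSheafData.support_comap]
    show (ψZ ≫ p i₀) _ ∉ ((B i₀).support : Set (Xb i₀))
    rw [hBs i₀, hψp i₀, ← hψπ i₀, ← Scheme.Hom.comp_apply, reassoc_of% hψ, hgπ]
    exact fun h => h ⟨v i₀ (a k), by simp only [← Scheme.Hom.comp_apply, Category.assoc]⟩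

end GrothLib.BlowUp6
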