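import Groth.Agent.Lib.GrpdQuot.InvariantOpen
import Mathlib.AlgebraicGeometry.ValuativeCriterion
import Mathlib.AlgebraicGeometry.IdealSheaf.Functorial
import Mathlib.RingTheory.Nakayama

/-!
# Ideal sheaves tested on valuation rings
-/

universe u

open CategoryTheory Limits AlgebraicGeometry IsLocalRing

namespace GrothLib.BlowUp6

variable {U W : Scheme.{u}}

/-- A specialization of the image of a quasi-compact morphism is seen by a valuation ring. -/
theorem exists_valuation_arc (g : U ⟶ W) [QuasiCompact g] (z : W) (hz : z ∈ closure (Set.range g)) :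
    ∃ (A : Type u) (_ : CommRing A) (_ : IsDomain A) (_ : ValuationRing A) (K : Type u) (_ : Field K)
      (_ : Algebra A K) (_ : IsFractionRing A K) (a : Spec (.of K) ⟶ U) (φ : Spec (.of A) ⟶ W),
      Spec.map (CommRingCat.ofHom (algebraMap A K)) ≫ φ = a ≫ g ∧ φ (closedPoint A) = z := by
  obtain ⟨x, -, h⟩ := GrpdQuot.exists_specializes_of_mem_closure g Set.univ isClosed_univ z
    (by rwa [Set.image_univ])
  let ψ : W.presheaf.stalk z ⟶ U.residueField x :=
    W.presheaf.stalkSpecializes h ≫ g.stalkMap x ≫ U.residue x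
  obtain ⟨A, hA, hA_local⟩ := exists_factor_valuationRing ψ.hom
  let ψA : W.presheaf.stalk z ⟶ .of A := CommRingCat.ofHom (ψ.hom.codRestrict _ hA)
  refine ⟨A, inferInstance, inferInstance, inferInstance, U.residueField x, inferInstance,
    inferInstance, inferInstance, U.fromSpecResidueField x, Spec.map ψA ≫ W.fromSpecStalk z, ?_, ?_⟩
  · rw [Scheme.fromSpecResidueField, Category.assoc, ← Scheme.SpecMap_stalkMap_fromSpecStalk,
      ← Scheme.SpecMap_stalkSpecializes_fromSpecStalk h]
    simp_rw [← Spec.map_comp_assoc]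
    rfl
  · simp only [Scheme.Hom.comp_base, TopCat.coe_comp, Function.comp_apply]
    have : Spec.map ψA (closedPoint A) = closedPoint (W.presheaf.stalk z) :=
      comap_closedPoint (S := A) (ψ.hom.codRestrict A.toSubring hA)
    rw [this, W.fromSpecStalk_closedPoint]

section Arc

variable {A K : Type u} [CommRing A] [Field K] [Algebra A K]

/-- An arc whose generic point factors through `g` lies in the scheme-theoretic image of `g`. -/
theorem ker_le_ker [IsDomain A] [IsFractionRing A K] (g : U ⟶ W) (a : Spec (.of K) ⟶ U)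
    (φ : Spec (.of A) ⟶ W) (h : Spec.map (CommRingCat.ofHom (algebraMap A K)) ≫ φ = a ≫ g) :
    g.ker ≤ φ.ker := by
  have hk : (Spec.map (CommRingCat.ofHom (algebraMap A K))).ker = ⊥ := by
    refine Scheme.IdealSheafData.ext_of_isAffine ?_
    rw [Scheme.Hom.ker_apply, Scheme.IdealSheafData.ideal_bot, Pi.bot_apply,
      ← RingHom.injective_iff_ker_eq_bot]
    intro r r' hr
    have hn := Scheme.ΓSpecIso_naturality (CommRingCat.ofHom (algebraMap A K))
    have hinj : Function.Injective (algebraMap A K) := IsFractionRing.injective A K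
    apply (ConcreteCategory.bijective_of_isIso (Scheme.ΓSpecIso (CommRingCat.of A)).hom).1
    exact hinj ((congr($hn r)).symm.trans
      ((congrArg (Scheme.ΓSpecIso (CommRingCat.of K)).hom hr).trans congr($hn r')))
  calc g.ker ≤ (a ≫ g).ker := Scheme.Hom.le_ker_comp a g
    _ = φ.ker := by
      rw [← h, Scheme.Hom.ker_comp, hk, Scheme.IdealSheafData.map_bot]

/-- An arc meeting an open at its closed point lies in it. -/
theorem range_subset_of_closedPoint_mem [IsLocalRing A] (φ : Spec (.of A) ⟶ W) {O : Set W}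
    (hO : IsOpen O) (h : φ (closedPoint A) ∈ O) : Set.range φ ⊆ O := by
  rintro _ ⟨p, rfl⟩
  exact ((specializes_closedPoint p).map φ.continuous).mem_open hO h

/-- Ideal sheaves on the spectrum of a valuation ring: no finitely generated proper nonzero ideal
sheaf has one power inside the next. -/
theorem not_pow_le_pow_succ [IsDomain A] [IsLocalRing A] [IsFractionRing A K]
    (I : (Spec (.of A)).IdealSheafData) (hfg : (I.ideal ⟨⊤, isAffineOpen_top _⟩).FG) (N : ℕ)
    (hclosed : closedPoint A ∈ (I.support : Set (Spec (.of A))))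
    (hgen : ∃ p, p ∉ (I.support : Set (Spec (.of A)))) :
    ¬ I ^ N ≤ I ^ (N + 1) := by
  intro hle
  let J := I.ideal ⟨⊤, isAffineOpen_top _⟩
  let e := (Scheme.ΓSpecIso (CommRingCat.of A)).commRingCatIsoToRingEquiv
  have : IsDomain Γ(Spec (.of A), ⊤) := e.toMulEquiv.isDomain A
  have : IsLocalRing Γ(Spec (.of A), ⊤) := e.symm.isLocalRing
  have hJtop : J ≠ ⊤ := fun h => by
    have : I = ⊤ := Scheme.IdealSheafData.ext_of_isAffine (by simpa [J] using h)
    rw [this, Scheme.IdealSheafData.support_top] at hclosed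
    exact hclosed
  have hJbot : J ≠ ⊥ := fun h => by
    have : I = ⊥ := Scheme.IdealSheafData.ext_of_isAffine (by simpa [J] using h)
    obtain ⟨p, hp⟩ := hgen
    rw [this, Scheme.IdealSheafData.support_bot] at hp
    exact hp trivial
  have h1 : J ^ N ≤ J • (J ^ N) := by
    rw [smul_eq_mul, ← pow_succ']
    simpa [Scheme.IdealSheafData.ideal_pow, J] using hle ⟨⊤, isAffineOpen_top _⟩
  have h2 := Submodule.eq_bot_of_le_smul_of_le_jacobson_bot J (J ^ N) (hfg.pow (n := N)) h1
    (by rw [IsLocalRing.jacobson_eq_maximalIdeal ⊥ bot_ne_top]; exact le_maximalIdeal hJtop)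
  exact hJbot (eq_zero_of_pow_eq_zero h2)

end Arc

end GrothLib.BlowUp6
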